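import Cfsg.Agent.Helper19.L37P.Tab

set_option autoImplicit false
set_option linter.all false
set_option maxRecDepth 1000000
set_option maxHeartbeats 0

namespace Cfsg.Agent.Helper19.L37P

theorem okR28 : OKR (28 * 2000) 2000 := by decide +kernel
theorem okR29 : OKR (29 * 2000) 2000 := by decide +kernel
theorem okR30 : OKR (30 * 2000) 2000 := by decide +kernel
theorem okR31 : OKR (31 * 2000) 2000 := by decide +kernel

end Cfsg.Agent.Helper19.L37P
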