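import Cfsg.Agent.Helper19.L37P.Tab

set_option autoImplicit false
set_option linter.all false
set_option maxRecDepth 1000000
set_option maxHeartbeats 0

namespace Cfsg.Agent.Helper19.L37P

theorem okT0 : OKT (0 * 20000) 20000 := by decide +kernel
theorem okT1 : OKT (1 * 20000) 20000 := by decide +kernel
theorem okT2 : OKT (2 * 20000) 20000 := by decide +kernel
theorem okT3 : OKT (3 * 20000) 20000 := by decide +kernel
theorem okT4 : OKT (4 * 20000) 20000 := by decide +kernel

end Cfsg.Agent.Helper19.L37P
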